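import Groth.Agent.CAlgH.HenselianColimit
import Groth.Agent.CAlgH.Popescu
import Mathlib.CategoryTheory.Presentable.Directed
import Mathlib.CategoryTheory.Filtered.Final

/-!
# An ind-smooth henselian algebra as a directed colimit of henselizations of smooth algebras
-/

set_option autoImplicit false
set_option linter.style.haveILetI false
set_option linter.unusedSectionVars false

universe u

open IsLocalRing CategoryTheory TensorProduct

noncomputable section

namespace Groth.Agent.IndStrictPS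

variable (C T : Type u) [CommRing C] [CommRing T] [HenselianLocalRing T] [Algebra C T]

/-- A smooth algebra, given by a presentation, with a map to `T`. -/
structure Obj : Type u where
  N : ℕ
  J : Ideal (MvPolynomial (Fin N) C)
  smooth : Algebra.Smooth C (MvPolynomial (Fin N) C ⧸ J)
  f : (MvPolynomial (Fin N) C ⧸ J) →ₐ[C] T

variable {C T}

namespace Obj

/-- The algebra. -/
abbrev B (o : Obj C T) : Type u := MvPolynomial (Fin o.N) C ⧸ o.J

instance (o : Obj C T) : Algebra.Smooth C o.B := o.smooth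

/-- The prime below the maximal ideal. -/
abbrev q (o : Obj C T) : Ideal o.B := (maximalIdeal T).comap o.f.toRingHom

/-- The local ring at that prime. -/
abbrev L (o : Obj C T) : Type u := Localization.AtPrime o.q

/-- Its henselization. -/
abbrev G (o : Obj C T) : Type u := HenselLib.LocalH o.L

instance henselianG (o : Obj C T) : HenselianLocalRing o.G := HenselLib.henselianLocalRing_localH

/-- The map to the henselization. -/
def toG (o : Obj C T) : o.B →+* o.G := (algebraMap o.L o.G).comp (algebraMap o.B o.L)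

instance algebraG (o : Obj C T) : Algebra C o.G := (o.toG.comp (algebraMap C o.B)).toAlgebra

theorem hom_ext (o : Obj C T) {U : Type u} [CommRing U] [HenselianLocalRing U] (g g' : o.G →+* U)
    (hl : IsLocalHom (g.comp (algebraMap o.L o.G))) (h : ∀ b, g (o.toG b) = g' (o.toG b)) : g = g' := by
  have h1 : g.comp (algebraMap o.L o.G) = g'.comp (algebraMap o.L o.G) :=
    IsLocalization.ringHom_ext o.q.primeCompl (RingHom.ext h)
  exact ((HenselLib.isHenselization_localH (R := o.L)).universal U _ hl).unique rfl h1.symm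

theorem isLocalHom_of_comp (o : Obj C T) {U : Type u} [CommRing U] [IsLocalRing U] (g : o.G →+* U)
    (hl : IsLocalHom (g.comp (algebraMap o.L o.G))) : IsLocalHom g := by
  refine ⟨fun x hx => by_contra fun hn => (mem_maximalIdeal (g x)).mp ?_ hx⟩
  have h1 : x ∈ (maximalIdeal o.L).map (algebraMap o.L o.G) := by
    rw [HenselLib.map_maximalIdeal_localH]; exact (mem_maximalIdeal x).mpr hn
  have h2 := Ideal.mem_map_of_mem g h1
  rw [Ideal.map_map] at h2
  exact ((Ideal.map_le_iff_le_comap (f := g.comp (algebraMap o.L o.G)) (K := maximalIdeal U)).mpr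
    fun y hy => Ideal.mem_comap.mpr ((mem_maximalIdeal _).mpr fun hu => (mem_maximalIdeal y).mp hy (hl.1 y hu))) h2

theorem exists_toT (o : Obj C T) :
    ∃ ψ : o.G →ₐ[C] T, IsLocalHom (ψ.toRingHom.comp (algebraMap o.L o.G)) ∧ ∀ b, ψ (o.toG b) = o.f b := by
  have hu : ∀ y : o.q.primeCompl, IsUnit (o.f.toRingHom y) := fun y => notMem_maximalIdeal.mp y.2
  let g : o.L →+* T := IsLocalization.lift hu
  have hg : IsLocalHom g := by
    refine ⟨fun z hz => ?_⟩
    obtain ⟨b, s, rfl⟩ := IsLocalization.exists_mk'_eq o.q.primeCompl z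
    refine (IsLocalization.AtPrime.isUnit_mk'_iff o.L o.q b s).mpr fun hb => (mem_maximalIdeal _).mp hb ?_
    have h1 := hz.mul (hu s)
    have h2 : g (IsLocalization.mk' o.L b s) * o.f.toRingHom (s : o.B) = o.f.toRingHom b := by
      rw [show o.f.toRingHom (s : o.B) = g (algebraMap o.B o.L (s : o.B)) from (IsLocalization.lift_eq hu _).symm,
        ← map_mul, IsLocalization.mk'_spec]
      exact IsLocalization.lift_eq hu b
    rw [h2] at h1
    exact h1
  obtain ⟨ψ, hψ, -⟩ := (HenselLib.isHenselization_localH (R := o.L)).universal T g hg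
  have hb : ∀ b, ψ (o.toG b) = o.f b := fun b => (RingHom.congr_fun hψ _).trans (IsLocalization.lift_eq hu b)
  exact ⟨{ ψ with commutes' := fun c => (hb _).trans (o.f.commutes c) }, by
    show IsLocalHom (ψ.comp (algebraMap o.L o.G)); rw [hψ]; exact hg, hb⟩

end Obj

/-- Morphisms. -/
structure Hom (o o' : Obj C T) : Type u where
  map : o.B →ₐ[C] o'.B
  comm : o'.f.comp map = o.f

instance : Category (Obj C T) where
  Hom := Hom
  id o := ⟨AlgHom.id C o.B, AlgHom.comp_id _⟩
  comp a b := ⟨b.map.comp a.map, by rw [← AlgHom.comp_assoc, b.comm, a.comm]⟩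

theorem Hom.ext' {o o' : Obj C T} {a b : Hom o o'} (h : a.map = b.map) : a = b := by
  cases a; cases b; cases h; rfl

theorem exists_trans {o o' : Obj C T} (h : o ⟶ o') :
    ∃ t : o.G →ₐ[C] o'.G, IsLocalHom t ∧ IsLocalHom (t.toRingHom.comp (algebraMap o.L o.G)) ∧
      ∀ b, t (o.toG b) = o'.toG ((h : Hom o o').map b) := by
  have hq : o.q = o'.q.comap (h : Hom o o').map.toRingHom := by
    rw [Obj.q, Obj.q, Ideal.comap_comap, ← (h : Hom o o').comm]; rfl
  let l : o.L →+* o'.G := (algebraMap o'.L o'.G).comp (Localization.localRingHom o.q o'.q _ hq)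
  haveI : IsLocalHom (Localization.localRingHom o.q o'.q _ hq) := Localization.isLocalHom_localRingHom _ _ _ hq
  have hl : IsLocalHom l := RingHom.isLocalHom_comp _ _
  obtain ⟨t, ht, -⟩ := (HenselLib.isHenselization_localH (R := o.L)).universal o'.G l hl
  have hb : ∀ b, t (o.toG b) = o'.toG ((h : Hom o o').map b) := fun b =>
    (RingHom.congr_fun ht _).trans
      (congrArg (algebraMap o'.L o'.G) (Localization.localRingHom_to_map o.q o'.q _ hq b))
  refine ⟨{ t with commutes' := fun c => (hb _).trans (congrArg o'.toG ((h : Hom o o').map.commutes c)) }, ?_, ?_, hb⟩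
  · haveI : IsLocalHom t := o.isLocalHom_of_comp t (by rw [ht]; exact hl)
    exact ⟨fun x hx => IsUnit.of_map t x hx⟩
  · show IsLocalHom (t.comp (algebraMap o.L o.G))
    rw [ht]; exact hl

theorem exists_obj (hI : Smoothing.IndSmooth C T) (A : Type u) [CommRing A] [Algebra C A]
    [Algebra.FinitePresentation C A] (f : A →ₐ[C] T) :
    ∃ (o : Obj C T) (g : A →ₐ[C] o.B), o.f.comp g = f := by
  obtain ⟨B, _, _, hB, g, h, hgh⟩ := hI A inferInstance f
  haveI := hB
  obtain ⟨n, π, hπ, -⟩ := Algebra.FinitePresentation.out (R := C) (A := B)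
  let e : (MvPolynomial (Fin n) C ⧸ RingHom.ker π.toRingHom) ≃ₐ[C] B := Ideal.quotientKerAlgEquivOfSurjective hπ
  refine ⟨⟨n, RingHom.ker π.toRingHom, Algebra.Smooth.of_equiv e.symm, h.comp e.toAlgHom⟩,
    e.symm.toAlgHom.comp g, ?_⟩
  rw [← hgh]
  refine AlgHom.ext fun a => ?_
  show h (e (e.symm (g a))) = h (g a)
  rw [e.apply_symm_apply]

theorem isFiltered (hI : Smoothing.IndSmooth C T) : IsFiltered (Obj C T) := by
  haveI : Nonempty (Obj C T) := by
    obtain ⟨o, -, -⟩ := exists_obj hI C (Algebra.ofId C T)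
    exact ⟨o⟩
  haveI : IsFilteredOrEmpty (Obj C T) :=
    { cocone_objs := fun o o' => by
        haveI : Algebra.Smooth C o.B := o.smooth
        haveI : Algebra.Smooth C o'.B := o'.smooth
        haveI : Algebra.FinitePresentation C (o.B ⊗[C] o'.B) :=
          Algebra.FinitePresentation.trans C o.B (o.B ⊗[C] o'.B)
        obtain ⟨z, g, hg⟩ := exists_obj hI (o.B ⊗[C] o'.B) (Algebra.TensorProduct.lift o.f o'.f fun _ _ => Commute.all _ _)
        exact ⟨z, ⟨g.comp Algebra.TensorProduct.includeLeft, by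
            rw [← AlgHom.comp_assoc, hg]; exact Algebra.TensorProduct.lift_comp_includeLeft _ _ fun _ _ => Commute.all _ _⟩,
          ⟨g.comp Algebra.TensorProduct.includeRight, by
            rw [← AlgHom.comp_assoc, hg]; exact Algebra.TensorProduct.lift_comp_includeRight _ _ fun _ _ => Commute.all _ _⟩, trivial⟩
      cocone_maps := fun o o' a b => by
        haveI : Algebra.Smooth C o'.B := o'.smooth
        let gen : Fin o.N → o'.B := fun i => (a : Hom o o').map (Ideal.Quotient.mk _ (MvPolynomial.X i)) -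
          (b : Hom o o').map (Ideal.Quotient.mk _ (MvPolynomial.X i))
        let K : Ideal o'.B := Ideal.span (Set.range gen)
        haveI : Algebra.FinitePresentation C (o'.B ⧸ K) :=
          Algebra.FinitePresentation.quotient (Submodule.fg_span (Set.finite_range gen))
        have hK : ∀ x ∈ K, o'.f x = 0 := by
          intro x hx
          refine (Ideal.span_le (I := RingHom.ker o'.f.toRingHom)).2 ?_ hx
          rintro _ ⟨i, rfl⟩
          show o'.f (_ - _) = 0
          rw [map_sub, ← AlgHom.comp_apply, ← AlgHom.comp_apply, (a : Hom o o').comm, (b : Hom o o').comm, sub_self]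
        obtain ⟨z, g, hg⟩ := exists_obj hI (o'.B ⧸ K) (Ideal.Quotient.liftₐ K o'.f hK)
        let c : o' ⟶ z := ⟨g.comp (Ideal.Quotient.mkₐ C K), by
          rw [← AlgHom.comp_assoc, hg]; exact Ideal.Quotient.liftₐ_comp _ _ _⟩
        refine ⟨z, c, Hom.ext' ?_⟩
        refine Ideal.Quotient.algHom_ext C (MvPolynomial.algHom_ext fun i => ?_)
        show g (Ideal.Quotient.mk K ((a : Hom o o').map (Ideal.Quotient.mk _ _))) =
          g (Ideal.Quotient.mk K ((b : Hom o o').map (Ideal.Quotient.mk _ _)))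
        rw [Ideal.Quotient.eq.2 (show (a : Hom o o').map _ - (b : Hom o o').map _ ∈ K from Ideal.subset_span ⟨i, rfl⟩)] }
  constructor

/-- The system. -/
theorem exists_system (hI : Smoothing.IndSmooth C T) :
    ∃ (ι : Type u) (_ : Preorder ι) (_ : Nonempty ι) (_ : IsDirected ι (· ≤ ·)) (o : ι → Obj C T)
      (φ : ∀ i j, i ≤ j → ((o i).G →ₐ[C] (o j).G)) (ψ : ∀ i, (o i).G →ₐ[C] T),
      (∀ i j (h : i ≤ j), IsLocalHom (φ i j h)) ∧ (∀ i, IsLocalHom (ψ i)) ∧
      (∀ i j l (hij : i ≤ j) (hjl : j ≤ l), (φ j l hjl).comp (φ i j hij) = φ i l (le_trans hij hjl)) ∧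
      (∀ i j (h : i ≤ j), (ψ j).comp (φ i j h) = ψ i) ∧
      (∀ a : T, ∃ j, ∃ x : (o j).G, ψ j x = a) ∧
      (∀ j (x : (o j).G), ψ j x = 0 → ∃ l, ∃ h : j ≤ l, φ j l h x = 0) := by
  classical
  haveI := isFiltered (C := C) (T := T) hI
  obtain ⟨ι, _, _, _, F, hF⟩ := IsFiltered.exists_directed (Obj C T)
  let mF : ∀ i j : ι, i ≤ j → Hom (F.obj i) (F.obj j) := fun i j h => F.map (homOfLE h)
  have hmF : ∀ i j l (hij : i ≤ j) (hjl : j ≤ l) b,
      (mF i l (hij.trans hjl)).map b = (mF j l hjl).map ((mF i j hij).map b) := fun i j l hij hjl b => by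
    show (F.map (homOfLE (hij.trans hjl)) : Hom _ _).map b = _
    rw [← homOfLE_comp hij hjl, F.map_comp]
    rfl
  choose ψ hψl hψ using fun i => (F.obj i).exists_toT
  choose φ hφl hφl' hφ using fun (i j : ι) (h : i ≤ j) => exists_trans (F.map (homOfLE h))
  have hφid : ∀ i x, φ i i le_rfl x = x := fun i x => by
    refine RingHom.congr_fun ((F.obj i).hom_ext (φ i i le_rfl).toRingHom (RingHom.id _) (hφl' i i le_rfl) fun b => ?_) x
    show φ i i le_rfl ((F.obj i).toG b) = _
    rw [hφ, show homOfLE (le_refl i) = 𝟙 i from rfl, F.map_id]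
    rfl
  have hφc : ∀ i j l (hij : i ≤ j) (hjl : j ≤ l), (φ j l hjl).comp (φ i j hij) = φ i l (le_trans hij hjl) := by
    intro i j l hij hjl
    refine AlgHom.coe_ringHom_injective ((F.obj i).hom_ext _ _ ?_ fun b => ?_)
    · haveI := hφl' i j hij
      haveI : IsLocalHom (φ j l hjl).toRingHom := ⟨(hφl j l hjl).1⟩
      exact RingHom.isLocalHom_comp (φ j l hjl).toRingHom ((φ i j hij).toRingHom.comp _)
    · show φ j l hjl (φ i j hij ((F.obj i).toG b)) = φ i l _ ((F.obj i).toG b)
      rw [hφ, hφ, hφ]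
      exact congrArg _ (hmF i j l hij hjl b).symm
  have hψc : ∀ i j (h : i ≤ j), (ψ j).comp (φ i j h) = ψ i := by
    intro i j h
    refine AlgHom.coe_ringHom_injective ((F.obj i).hom_ext _ _ ?_ fun b => ?_)
    · haveI := hφl' i j h
      haveI : IsLocalHom (ψ j).toRingHom := (F.obj j).isLocalHom_of_comp _ (hψl j)
      exact RingHom.isLocalHom_comp (ψ j).toRingHom ((φ i j h).toRingHom.comp _)
    · show ψ j (φ i j h ((F.obj i).toG b)) = ψ i ((F.obj i).toG b)
      rw [hφ, hψ, hψ]
      exact AlgHom.congr_fun (F.map (homOfLE h) : Hom _ _).comm b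
  let fr : ∀ i j : ι, i ≤ j → ((F.obj i).G →+* (F.obj j).G) := fun i j h => (φ i j h).toRingHom
  haveI hsys : DirectedSystem (fun i => (F.obj i).G) (fun i j h => fr i j h) :=
    ⟨fun i x => hφid i x, fun {l j i} hij hjl x => AlgHom.congr_fun (hφc i j l hij hjl) x⟩
  have hloc : ∀ i j (h : i ≤ j), IsLocalHom (fr i j h) := fun i j h => ⟨(hφl i j h).1⟩
  let H := DirectLimit (fun i => (F.obj i).G) fr
  haveI : HenselianLocalRing H := CAlgH.henselianLocalRing_directLimit hloc
  let ρ : ∀ i, (F.obj i).B →+* H := fun i => (DirectLimit.Ring.of _ fr i).comp (F.obj i).toG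
  have hρ : ∀ i j (h : i ≤ j) b, ρ j ((mF i j h).map b) = ρ i b := fun i j h b => by
    show DirectLimit.Ring.of _ fr j ((F.obj j).toG _) = DirectLimit.Ring.of _ fr i ((F.obj i).toG b)
    rw [← hφ i j h b]
    exact DirectLimit.Ring.of_f _ _
  have hfin := (Functor.final_iff_of_isFiltered F).1 hF
  have hkill : ∀ i (b : (F.obj i).B), (F.obj i).f b = 0 → ρ i b = 0 := by
    intro i b hb
    haveI : Algebra.Smooth C (F.obj i).B := (F.obj i).smooth
    haveI : Algebra.FinitePresentation C ((F.obj i).B ⧸ Ideal.span {b}) :=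
      Algebra.FinitePresentation.quotient (Submodule.fg_span (Set.finite_singleton b))
    obtain ⟨z, g, hg⟩ := exists_obj hI ((F.obj i).B ⧸ Ideal.span {b})
      (Ideal.Quotient.liftₐ _ (F.obj i).f fun x hx => by
        obtain ⟨a, rfl⟩ := Ideal.mem_span_singleton'.1 hx
        rw [map_mul, hb, mul_zero])
    let c : F.obj i ⟶ z := ⟨g.comp (Ideal.Quotient.mkₐ C _), by
      rw [← AlgHom.comp_assoc, hg]; exact Ideal.Quotient.liftₐ_comp _ _ _⟩
    obtain ⟨j, ⟨d⟩⟩ := hfin.1 z
    obtain ⟨k, hik, hjk⟩ := exists_ge_ge i j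
    obtain ⟨l, e, he⟩ := hfin.2 (c ≫ d ≫ F.map (homOfLE hjk)) (F.map (homOfLE hik))
    have h1 : (mF k l (leOfHom e)).map ((mF i k hik).map b) = 0 := by
      have h2 : (F.map e : Hom _ _).map ((F.map (homOfLE hik) : Hom _ _).map b) =
          (F.map e : Hom _ _).map ((F.map (homOfLE hjk) : Hom _ _).map
            ((d : Hom _ _).map (g (Ideal.Quotient.mk _ b)))) :=
        (AlgHom.congr_fun (congrArg Hom.map he) b).symm
      rw [Ideal.Quotient.eq_zero_iff_mem.2 (Ideal.mem_span_singleton_self b), map_zero, map_zero, map_zero,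
        map_zero] at h2
      exact h2
    rw [← hρ i k hik, ← hρ k l (leOfHom e), h1, map_zero]
  have hsurjB : ∀ a : T, ∃ i, ∃ b : (F.obj i).B, (F.obj i).f b = a := by
    intro a
    obtain ⟨z, g, hg⟩ := exists_obj hI (MvPolynomial PUnit.{u+1} C) (MvPolynomial.aeval fun _ => a)
    obtain ⟨i, ⟨d⟩⟩ := hfin.1 z
    refine ⟨i, (d : Hom _ _).map (g (MvPolynomial.X PUnit.unit)), ?_⟩
    rw [← AlgHom.comp_apply, (d : Hom _ _).comm, ← AlgHom.comp_apply, hg, MvPolynomial.aeval_X]
  choose idx rep hrep using hsurjB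
  have hσ : ∀ i (b : (F.obj i).B), ρ (idx ((F.obj i).f b)) (rep ((F.obj i).f b)) = ρ i b := by
    intro i b
    obtain ⟨k, h1, h2⟩ := exists_ge_ge (idx ((F.obj i).f b)) i
    rw [← hρ _ k h1, ← hρ i k h2, ← sub_eq_zero, ← map_sub]
    refine hkill k _ ?_
    rw [map_sub, sub_eq_zero, ← AlgHom.comp_apply, (mF _ k h1).comm, hrep, ← AlgHom.comp_apply, (mF i k h2).comm]
  have hop : ∀ a b : T, ρ (idx (a * b)) (rep (a * b)) = ρ (idx a) (rep a) * ρ (idx b) (rep b) ∧
      ρ (idx (a + b)) (rep (a + b)) = ρ (idx a) (rep a) + ρ (idx b) (rep b) := by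
    intro a b
    obtain ⟨k, h1, h2⟩ := exists_ge_ge (idx a) (idx b)
    have ea : (F.obj k).f ((mF _ k h1).map (rep a)) = a := by
      rw [← AlgHom.comp_apply, (mF _ k h1).comm, hrep]
    have eb : (F.obj k).f ((mF _ k h2).map (rep b)) = b := by
      rw [← AlgHom.comp_apply, (mF _ k h2).comm, hrep]
    have hm := hσ k ((mF _ k h1).map (rep a) * (mF _ k h2).map (rep b))
    have ha := hσ k ((mF _ k h1).map (rep a) + (mF _ k h2).map (rep b))
    rw [map_mul, map_mul, ea, eb, hρ, hρ] at hm
    rw [map_add, map_add, ea, eb, hρ, hρ] at ha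
    exact ⟨hm, ha⟩
  let i₀ : ι := Classical.arbitrary ι
  let σ : T →+* H :=
    { toFun := fun a => ρ (idx a) (rep a)
      map_one' := by rw [← map_one (F.obj i₀).f, hσ, map_one]
      map_mul' := fun a b => (hop a b).1
      map_zero' := by rw [← map_zero (F.obj i₀).f, hσ, map_zero]
      map_add' := fun a b => (hop a b).2 }
  refine ⟨ι, inferInstance, inferInstance, inferInstance, F.obj, φ, ψ, hφl,
    fun i => ⟨((F.obj i).isLocalHom_of_comp _ (hψl i)).1⟩, hφc, hψc, fun a => ?_, fun j x hx => ?_⟩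
  · exact ⟨idx a, (F.obj _).toG (rep a), (hψ _ _).trans (hrep a)⟩
  · have h1 : DirectLimit.Ring.of _ fr j = σ.comp (ψ j).toRingHom := by
      refine (F.obj j).hom_ext _ _ ?_ fun b => ?_
      · haveI : IsLocalHom (DirectLimit.Ring.of _ fr j) := ⟨fun y hy => (CAlgH.isUnit_of_iff hloc y).mp hy⟩
        haveI := HenselLib.isHenselization_localH (R := (F.obj j).L)
        exact RingHom.isLocalHom_comp _ _
      · show _ = σ (ψ j ((F.obj j).toG b))
        rw [hψ]
        exact (hσ j b).symm
    have h2 : DirectLimit.Ring.of _ fr j x = DirectLimit.Ring.of _ fr j 0 := by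
      rw [map_zero, h1, RingHom.comp_apply]
      exact (congrArg σ hx).trans (map_zero σ)
    obtain ⟨l, hjl, hjl', h3⟩ := Quotient.exact h2
    exact ⟨l, hjl, h3.trans (map_zero _)⟩

end Groth.Agent.IndStrictPS
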