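import Groth.Agent.IndStrictPS.Basic
import Groth.Agent.HenselLib.StrictTransfer
import Groth.Agent.HenselLib.WEtNoeth
import Groth.Agent.EGA43.BranchCount.Compare
import Groth.Agent.CAlgH.AdicSmoothRegular
import Groth.Agent.CAlgH.AdicSmoothPowerSeries
import Groth.Agent.CAlgH.PowerSeriesComplete
import Mathlib.RingTheory.Unramified.LocalStructure

/-!
# Stages of the system are strict henselizations of local rings of affine space
-/

set_option autoImplicit false
set_option linter.style.haveILetI false
set_option linter.unusedSectionVars false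

universe u

open IsLocalRing TensorProduct

noncomputable section

namespace Groth.Agent.IndStrictPS

theorem isSepClosed_of_bijective {K L : Type u} [Field K] [Field L] (f : K →+* L) (hf : Function.Bijective f)
    [IsSepClosed K] : IsSepClosed L := by
  let e := RingEquiv.ofBijective f hf
  refine IsSepClosed.of_exists_root _ fun p hm hi hs => ?_
  have hdeg : (p.map e.symm.toRingHom).degree ≠ 0 := by
    rw [Polynomial.degree_map]
    intro h0
    exact hi.not_isUnit (Polynomial.isUnit_iff_degree_eq_zero.2 h0)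
  obtain ⟨x, hx⟩ := IsSepClosed.exists_root _ hdeg hs.map
  refine ⟨e x, e.symm.injective ?_⟩
  rw [map_zero, ← hx, Polynomial.eval_map]
  refine ((Polynomial.eval₂_at_apply e.symm.toRingHom (e x) (p := p))).symm.trans ?_
  congr 1
  exact e.symm_apply_apply x

variable {C T : Type u} [CommRing C] [IsLocalRing C] [CommRing T] [HenselianLocalRing T] [Algebra C T]

theorem exists_strict (ε : T →ₐ[C] C) [IsLocalHom ε.toRingHom] [IsSepClosed (ResidueField C)] (o : Obj C T) :
    ∃ (N : ℕ) (_ : Algebra (Localization.AtPrime ((maximalIdeal C).comap (MvPolynomial.constantCoeff : MvPolynomial (Fin N) C →+* C))) o.G)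
      (_ : IsLocalHom (algebraMap (Localization.AtPrime ((maximalIdeal C).comap (MvPolynomial.constantCoeff : MvPolynomial (Fin N) C →+* C))) o.G)),
      IsScalarTower C (Localization.AtPrime ((maximalIdeal C).comap (MvPolynomial.constantCoeff : MvPolynomial (Fin N) C →+* C))) o.G ∧
      Hensel.IsStrictHenselization (Localization.AtPrime ((maximalIdeal C).comap (MvPolynomial.constantCoeff : MvPolynomial (Fin N) C →+* C))) o.G := by
  haveI : Algebra.Smooth C o.B := o.smooth
  haveI : Algebra.IsSmoothAt C o.q := Algebra.FormallySmooth.comp C o.B _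
  obtain ⟨g, hg, n, _, _, hse⟩ := Algebra.IsSmoothAt.exists_isStandardEtale_mvPolynomial (R := C) (p := o.q)
  haveI := hse
  let Bg := Localization.Away g
  let P := MvPolynomial (Fin n) C
  have hu : IsUnit (o.f g) := notMem_maximalIdeal.1 hg
  let θ : Bg →+* T := IsLocalization.Away.lift g (g := o.f.toRingHom) hu
  have hθ : ∀ b, θ (algebraMap o.B Bg b) = o.f b := fun b => IsLocalization.Away.lift_eq g hu b
  let c : Fin n → C := fun i => ε (θ (algebraMap P Bg (MvPolynomial.X i)))
  let sh : P ≃ₐ[C] P := AlgEquiv.ofAlgHom (MvPolynomial.aeval fun i => MvPolynomial.X i - MvPolynomial.C (c i))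
    (MvPolynomial.aeval fun i => MvPolynomial.X i + MvPolynomial.C (c i))
    (MvPolynomial.algHom_ext fun i => by
      rw [AlgHom.comp_apply, MvPolynomial.aeval_X, map_add, MvPolynomial.aeval_X, MvPolynomial.aeval_C,
        MvPolynomial.algebraMap_eq, sub_add_cancel]
      rfl)
    (MvPolynomial.algHom_ext fun i => by
      rw [AlgHom.comp_apply, MvPolynomial.aeval_X, map_sub, MvPolynomial.aeval_X, MvPolynomial.aeval_C,
        MvPolynomial.algebraMap_eq, add_sub_cancel_right]
      rfl)
  let ρ : P →+* Bg := (algebraMap P Bg).comp sh.toRingHom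
  have hρe : ρ.Etale := by
    have h1 : (algebraMap P Bg).Etale := RingHom.etale_algebraMap.2 inferInstance
    exact RingHom.Etale.stableUnderComposition _ _ (RingHom.Etale.of_bijective sh.bijective) h1
  have hρC : ∀ a : C, ρ (MvPolynomial.C a) = algebraMap C Bg a := fun a => by
    show algebraMap P Bg (sh (algebraMap C P a)) = _
    rw [AlgEquiv.commutes, ← IsScalarTower.algebraMap_apply]
  have hθC : ∀ a : C, θ (algebraMap C Bg a) = algebraMap C T a := fun a => by
    rw [IsScalarTower.algebraMap_apply C o.B Bg, hθ, AlgHom.commutes]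
  have hcc : (ε.toRingHom.comp θ).comp ρ = MvPolynomial.constantCoeff := by
    refine MvPolynomial.ringHom_ext (fun a => ?_) fun i => ?_
    · show ε (θ (ρ (MvPolynomial.C a))) = _
      rw [hρC, hθC, ε.commutes, MvPolynomial.constantCoeff_C]
      rfl
    · show ε (θ (algebraMap P Bg (sh (MvPolynomial.X i)))) = _
      rw [show sh (MvPolynomial.X i) = MvPolynomial.X i - algebraMap C P (c i) from
          (MvPolynomial.aeval_X _ i), map_sub, map_sub, map_sub, ← IsScalarTower.algebraMap_apply, hθC, ε.commutes,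
        MvPolynomial.constantCoeff_X]
      exact sub_self _
  let P0 := (maximalIdeal C).comap (MvPolynomial.constantCoeff : P →+* C)
  have hlg : IsUnit (o.toG g) := ((IsLocalization.AtPrime.isUnit_to_map_iff o.L o.q g).2 hg).map (algebraMap o.L o.G)
  let γ : Bg →+* o.G := IsLocalization.Away.lift g (g := o.toG) hlg
  have hγ : ∀ b, γ (algebraMap o.B Bg b) = o.toG b := fun b => IsLocalization.Away.lift_eq g hlg b
  obtain ⟨ψ, hψl, hψ⟩ := o.exists_toT
  haveI : IsLocalHom ψ.toRingHom := o.isLocalHom_of_comp _ hψl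
  have hψγ : ψ.toRingHom.comp γ = θ := IsLocalization.ringHom_ext (Submonoid.powers g)
    (RingHom.ext fun b => by show ψ (γ (algebraMap o.B Bg b)) = θ (algebraMap o.B Bg b); rw [hγ, hψ, hθ])
  have hunit : ∀ y : P, IsUnit (γ (ρ y)) ↔ IsUnit (MvPolynomial.constantCoeff y) := fun y => by
    rw [← isUnit_map_iff ψ.toRingHom, ← RingHom.comp_apply ψ.toRingHom, hψγ, ← isUnit_map_iff ε.toRingHom,
      ← hcc]
    rfl
  have hu0 : ∀ y : P0.primeCompl, IsUnit ((γ.comp ρ) y) := fun y => (hunit y).2 (notMem_maximalIdeal.1 y.2)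
  letI : Algebra (Localization.AtPrime P0) o.G := (IsLocalization.lift hu0).toAlgebra
  have hlift : ∀ y : P, algebraMap (Localization.AtPrime P0) o.G (algebraMap P _ y) = γ (ρ y) := fun y =>
    IsLocalization.lift_eq hu0 y
  haveI hloc : IsLocalHom (algebraMap (Localization.AtPrime P0) o.G) := ⟨fun z hz => by
    obtain ⟨y, s, rfl⟩ := IsLocalization.exists_mk'_eq P0.primeCompl z
    refine (IsLocalization.AtPrime.isUnit_mk'_iff (Localization.AtPrime P0) P0 y s).mpr fun hy => ?_
    have h1 := hz.mul (((IsLocalization.map_units (Localization.AtPrime P0) s)).map (algebraMap _ o.G))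
    rw [← map_mul, IsLocalization.mk'_spec, hlift, hunit] at h1
    exact (mem_maximalIdeal _).1 hy h1⟩
  haveI htow : IsScalarTower C (Localization.AtPrime P0) o.G := IsScalarTower.of_algebraMap_eq fun a => by
    rw [IsScalarTower.algebraMap_apply C P (Localization.AtPrime P0), hlift, MvPolynomial.algebraMap_eq, hρC,
      IsScalarTower.algebraMap_apply C o.B Bg, hγ]
    rfl
  -- weakly etale
  haveI := HenselLib.isHenselization_localH (R := o.L)
  haveI : Algebra.WeaklyEtale o.L o.G := EGA43.BranchCount.weaklyEtale_of_isHenselization o.L o.G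
  letI : Algebra o.B o.G := o.toG.toAlgebra
  haveI : IsScalarTower o.B o.L o.G := ⟨fun b l x => by
    have e : b • l = algebraMap o.B o.L b * l := Algebra.smul_def b l
    show algebraMap o.L o.G (b • l) * x = o.toG b * (algebraMap o.L o.G l * x)
    rw [e, map_mul, mul_assoc]; rfl⟩
  haveI : Algebra.WeaklyEtale o.B o.L := HenselLib.WEtNoeth.weaklyEtale_of_isLocalization o.q.primeCompl
  haveI : Algebra.WeaklyEtale o.B o.G := Algebra.WeaklyEtale.trans o.B o.L o.G
  haveI : Algebra.WeaklyEtale o.B Bg := HenselLib.WEtNoeth.weaklyEtale_of_isLocalization (Submonoid.powers g)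
  letI : Algebra Bg o.G := γ.toAlgebra
  haveI : IsScalarTower o.B Bg o.G := IsScalarTower.of_algebraMap_eq fun b => (hγ b).symm
  haveI : Algebra.WeaklyEtale Bg o.G := HenselLib.WEt.weaklyEtale_of_algHom (A := o.B)
  letI aP : Algebra P o.G := (γ.comp ρ).toAlgebra
  haveI : Algebra.WeaklyEtale P o.G := by
    letI aρ : Algebra P Bg := ρ.toAlgebra
    haveI : Algebra.Etale P Bg := hρe
    haveI : IsScalarTower P Bg o.G := IsScalarTower.of_algebraMap_eq fun y => rfl
    exact Algebra.WeaklyEtale.trans P Bg o.G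
  haveI : IsScalarTower P (Localization.AtPrime P0) o.G := IsScalarTower.of_algebraMap_eq fun y => (hlift y).symm
  haveI : Algebra.WeaklyEtale P (Localization.AtPrime P0) := HenselLib.WEtNoeth.weaklyEtale_of_isLocalization P0.primeCompl
  haveI : Algebra.WeaklyEtale (Localization.AtPrime P0) o.G := HenselLib.WEt.weaklyEtale_of_algHom (A := P)
  haveI : IsSepClosed (ResidueField o.G) := by
    haveI hlocC : IsLocalHom (algebraMap C o.G) := ⟨fun a ha => by
      have := ha.map (ε.comp ψ).toRingHom
      rwa [show (ε.comp ψ).toRingHom (algebraMap C o.G a) = a from (ε.comp ψ).commutes a] at this⟩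
    refine isSepClosed_of_bijective (ResidueField.map (algebraMap C o.G))
      ⟨RingHom.injective _, fun z => ?_⟩
    obtain ⟨x, rfl⟩ := residue_surjective z
    haveI : IsLocalHom (ε.toRingHom.comp ψ.toRingHom) := RingHom.isLocalHom_comp _ _
    refine ⟨residue C (ε (ψ x)), ?_⟩
    rw [ResidueField.map_residue]
    refine Ideal.Quotient.eq.2 ((mem_maximalIdeal _).2 fun h => ?_)
    have h2 := h.map (ε.toRingHom.comp ψ.toRingHom)
    rw [map_sub] at h2
    refine not_isUnit_zero (M₀ := C) ?_
    rwa [show (ε.toRingHom.comp ψ.toRingHom) (algebraMap C o.G (ε (ψ x))) = ε (ψ x) from (ε.comp ψ).commutes _,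
      show (ε.toRingHom.comp ψ.toRingHom) x = ε (ψ x) from rfl, sub_self] at h2
  exact ⟨n, inferInstance, hloc, htow,
    HenselLib.StrictTransfer.isStrictHenselization_of_weaklyEtale (Localization.AtPrime P0) o.G⟩

theorem main (C : Type u) [CommRing C] [IsLocalRing C] [IsNoetherianRing C] [IsAdicComplete (maximalIdeal C) C]
    [IsSepClosed (ResidueField C)] (m : ℕ) :
    ∃ (ι : Type u) (_ : Preorder ι) (_ : Nonempty ι) (_ : IsDirected ι (· ≤ ·))
      (S : ι → Type u) (_ : ∀ j, CommRing (S j)) (_ : ∀ j, IsLocalRing (S j)) (_ : ∀ j, Algebra C (S j))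
      (φ : ∀ i j, i ≤ j → (S i →ₐ[C] S j)) (ψ : ∀ j, S j →ₐ[C] MvPowerSeries (Fin m) C),
      (∀ i j (h : i ≤ j), IsLocalHom (φ i j h)) ∧
      (∀ i j l (hij : i ≤ j) (hjl : j ≤ l), (φ j l hjl).comp (φ i j hij) = φ i l (le_trans hij hjl)) ∧
      (∀ i j (h : i ≤ j), (ψ j).comp (φ i j h) = ψ i) ∧
      (∀ a : MvPowerSeries (Fin m) C, ∃ j, ∃ x : S j, ψ j x = a) ∧
      (∀ j (x : S j), ψ j x = 0 → ∃ l, ∃ h : j ≤ l, φ j l h x = 0) ∧
      (∀ j, ∃ (N : ℕ) (_ : Algebra (Localization.AtPrime ((IsLocalRing.maximalIdeal C).comap (MvPolynomial.constantCoeff : MvPolynomial (Fin N) C →+* C))) (S j))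
          (_ : IsLocalHom (algebraMap (Localization.AtPrime ((IsLocalRing.maximalIdeal C).comap (MvPolynomial.constantCoeff : MvPolynomial (Fin N) C →+* C))) (S j))),
          IsScalarTower C (Localization.AtPrime ((IsLocalRing.maximalIdeal C).comap (MvPolynomial.constantCoeff : MvPolynomial (Fin N) C →+* C))) (S j) ∧
          Hensel.IsStrictHenselization (Localization.AtPrime ((IsLocalRing.maximalIdeal C).comap (MvPolynomial.constantCoeff : MvPolynomial (Fin N) C →+* C))) (S j)) := by
  let T := MvPowerSeries (Fin m) C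
  haveI : IsNoetherianRing T := inferInstance
  haveI : IsLocalRing T := inferInstance
  haveI : IsAdicComplete (maximalIdeal T) T := CAlgH.isAdicComplete_maximalIdeal_mvPowerSeries
  haveI : HenselianLocalRing T := HenselLib.henselianLocalRing_of_henselianRing T
  let ε : T →ₐ[C] C := { (MvPowerSeries.constantCoeff : T →+* C) with
    commutes' := fun a => (congrArg MvPowerSeries.constantCoeff MvPowerSeries.algebraMap_apply).trans (MvPowerSeries.constantCoeff_C a) }
  haveI : IsLocalHom ε.toRingHom := ⟨fun x hx => MvPowerSeries.isUnit_iff_constantCoeff.2 hx⟩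
  haveI : IsLocalHom (algebraMap C T) := ⟨fun a ha => by
    have := ha.map ε.toRingHom
    rwa [show ε.toRingHom (algebraMap C T a) = a from ε.commutes a] at this⟩
  have hreg : CAlg.IsRegularHom C T :=
    CAlgH.AdicSmooth.isRegularHom_of_complete (CAlgH.AdicSmooth.mvPowerSeries_of_isMaximal _)
  obtain ⟨ι, _, _, _, o, φ, ψ, h1, -, h2, h3, h4, h5⟩ :=
    exists_system (C := C) (T := T) (CAlgH.Popescu.indSmooth_of_isRegularHom hreg)
  exact ⟨ι, inferInstance, inferInstance, inferInstance, fun i => (o i).G, inferInstance, inferInstance, inferInstance,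
    φ, ψ, h1, h2, h3, h4, h5, fun j => exists_strict ε (o j)⟩

end Groth.Agent.IndStrictPS
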